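import Groth.Agent.L21.RootCover.Ring
import Groth.Agent.L18.NormalizationGeneric
import Groth.Agent.L19.NormalSections
import Groth.Agent.L22.PDual.RegVanish
import Groth.Agent.L26.AlbSm.CurveModel
import Groth.Agent.L16.CycCov.Frames
import Mathlib.FieldTheory.KummerPolynomial
import Mathlib.RingTheory.RootsOfUnity.AlgebraicallyClosed
import Mathlib.AlgebraicGeometry.Morphisms.Etale
import Mathlib.RingTheory.RingHom.Etale

/-!
The cover of a smooth proper curve given by a root of a rational function.
-/

set_option autoImplicit false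
set_option linter.style.haveILetI false
set_option maxSynthPendingDepth 3
set_option backward.isDefEq.respectTransparency.types false
universe u

open CategoryTheory CategoryTheory.Limits AlgebraicGeometry TopologicalSpace

noncomputable section

namespace Groth.L21.RootCover

open Groth.L02.CycCover (pol Ring' root_pow finite_ring')

/-- The cover of a smooth proper curve extracting a root of a rational function. -/
theorem exists_root_cover {k : Type u} [Field k] [IsAlgClosed k] (C : Scheme.{u})
    [C.Over (Spec (CommRingCat.of k))] [IsProper (C ↘ Spec (CommRingCat.of k))]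
    [Smooth (C ↘ Spec (CommRingCat.of k))] [IsIntegral C] (hdim : topologicalKrullDim C = 1)
    {n : ℕ} (hn : n.Prime) (hnk : (n : k) ≠ 0) (f₀ : C.functionField) (hf : ∀ b, b ^ n ≠ f₀) :
    ∃ (Y : Scheme.{u}) (_ : IsIntegral Y) (ψ : Y ⟶ C),
      IsProper (ψ ≫ (C ↘ Spec (CommRingCat.of k))) ∧ Smooth (ψ ≫ (C ↘ Spec (CommRingCat.of k))) ∧
      topologicalKrullDim Y = 1 ∧ IsFinite ψ ∧
      (∀ (U : Y.Opens) [Nonempty U], IsIntegrallyClosed Γ(Y, U)) ∧
      ∀ (U : C.Opens) [Nonempty U], IsAffineOpen U → ∀ (θ : Γ(C, U)) (c : C.functionField), c ≠ 0 →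
        C.germToFunctionField U θ = c ^ n * f₀ →
        (∃ β : Γ(Y, ψ ⁻¹ᵁ U), β ^ n = ψ.app U θ) ∧ Nonempty (ψ ⁻¹ᵁ U : Y.Opens) ∧
        Function.Injective (ψ.app U) ∧
        (IsUnit θ → FormallyUnramified ((ψ ⁻¹ᵁ U).ι ≫ ψ)) := by
  let p := C ↘ Spec (CommRingCat.of k)
  let K : Type u := C.functionField
  haveI : Fact (Irreducible (pol n (f₀ : K))) := ⟨X_pow_sub_C_irreducible_of_prime hn hf⟩
  let L : Type u := Ring' n (f₀ : K)
  letI : Field L := AdjoinRoot.instField
  let φ : C.functionField →+* L := AdjoinRoot.of (pol n f₀)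
  haveI := finite_ring' hn.pos (f₀ : K)
  have hfin : φ.Finite := RingHom.finite_algebraMap.mpr (inferInstance : Module.Finite K L)
  let g : Spec (CommRingCat.of L) ⟶ C := Spec.map (CommRingCat.ofHom φ) ≫ C.fromSpecStalk (genericPoint C)
  have hg : g = Spec.map (CommRingCat.ofHom φ) ≫ C.fromSpecStalk (genericPoint C) := rfl
  haveI : IsFinite g.fromNormalization := Groth.L18.NormField.isFinite_fromNormalization p hfin hg
  haveI : IsIntegral g.normalization := inferInstance
  let pY : g.normalization ⟶ Spec (CommRingCat.of k) := g.fromNormalization ≫ p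
  haveI : IsProper pY := (inferInstance : IsProper (g.fromNormalization ≫ p))
  haveI : IsLocallyNoetherian g.normalization := LocallyOfFiniteType.isLocallyNoetherian pY
  have hdimC : ∀ x : C, IsClosed ({x} : Set C) → ringKrullDim (C.presheaf.stalk x) = 1 := fun x hx => by
    exact_mod_cast Groth.L22.PDual.dim_stalk_closed_point k (d := 1) (by exact_mod_cast hdim) hx
  haveI : Smooth pY := Groth.L26.Weil.smooth_of_regular_closed pY fun y hy => by
    haveI := (Groth.L18.NormField.isNormalScheme hg y).1
    haveI := (Groth.L18.NormField.isNormalScheme hg y).2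
    haveI := Groth.L18.Codim1.valuationRing_of_normal (g.normalization.presheaf.stalk y)
      (Groth.L18.NormField.dim_stalk hg hdimC y hy).le
    infer_instance
  haveI : CompactSpace g.normalization := QuasiCompact.compactSpace_of_compactSpace pY
  refine ⟨g.normalization, inferInstance, g.fromNormalization, ‹_›, ‹_›,
    Groth.Agent.Pic0.Chain.dim_eq_one_of_closed g.normalization
      (fun y hy => Groth.L18.NormField.dim_stalk hg hdimC y hy),
    ‹_›, fun U hU => Groth.L19.NormalSec.isIntegrallyClosed_sections
      (fun y => (Groth.L18.NormField.isNormalScheme hg y).2) U, ?_⟩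
  intro U _ hU θ c hc hθ
  haveI : IsFractionRing Γ(C, U) K := functionField_isFractionRing_of_isAffineOpen C U hU
  obtain ⟨e, he, -⟩ := Groth.L18.NormField.exists_equiv hg hU
  letI aK : Algebra Γ(C, U) L := (φ.comp (C.germToFunctionField U).hom).toAlgebra
  have happ : (g.fromNormalization.app U).hom =
      e.symm.toRingHom.comp (algebraMap Γ(C, U) (integralClosure Γ(C, U) L)) :=
    RingHom.ext fun a => by
      apply e.injective
      rw [he, RingHom.comp_apply]
      exact (e.apply_symm_apply _).symm
  let r : L := φ c * AdjoinRoot.root (pol n f₀)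
  have hr : r ^ n = algebraMap Γ(C, U) L θ := by
    show r ^ n = φ (C.germToFunctionField U θ)
    rw [mul_pow, root_pow, hθ, map_mul, map_pow]
  have hrint : IsIntegral Γ(C, U) r := IsIntegral.of_pow hn.pos (hr ▸ isIntegral_algebraMap)
  have hinj : Function.Injective (algebraMap Γ(C, U) (integralClosure Γ(C, U) L)) := fun a b hab =>
    (φ.injective.comp (C.germToFunctionField_injective U)) (congrArg Subtype.val hab)
  haveI hne : Nonempty (g.fromNormalization ⁻¹ᵁ U : g.normalization.Opens) := by
    haveI : Nontrivial Γ(g.normalization, g.fromNormalization ⁻¹ᵁ U) := e.toEquiv.nontrivial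
    exact ⟨(hU.preimage g.fromNormalization).isoSpec.inv
      (Classical.arbitrary (PrimeSpectrum Γ(g.normalization, g.fromNormalization ⁻¹ᵁ U)))⟩
  refine ⟨⟨e.symm ⟨r, hrint⟩, e.injective (Subtype.ext ?_)⟩, hne, ?_, fun hθu => ?_⟩
  · rw [map_pow, e.apply_symm_apply, he]
    exact hr
  · intro a b hab
    change (g.fromNormalization.app U).hom a = (g.fromNormalization.app U).hom b at hab
    rw [happ] at hab
    exact hinj (e.symm.injective hab)
  · haveI : NeZero (n : k) := ⟨hnk⟩
    obtain ⟨ζ, hζ⟩ := HasEnoughRootsOfUnity.exists_primitiveRoot k n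
    let ρ : k →+* Γ(C, U) := ((Scheme.ΓSpecIso (CommRingCat.of k)).inv ≫ p.appLE ⊤ U le_top).hom
    haveI : IsIntegrallyClosed Γ(C, U) := Groth.L16.CycCov.isIntegrallyClosed_of_smooth p U
    have hnU : IsUnit (n : Γ(C, U)) := by simpa using (Ne.isUnit hnk).map ρ
    have hζK : IsPrimitiveRoot (algebraMap Γ(C, U) K (ρ ζ)) n :=
      hζ.map_of_injective (f := (algebraMap Γ(C, U) K).comp ρ) ((algebraMap Γ(C, U) K).comp ρ).injective
    have key := etale_integralClosure_root (B := Γ(C, U)) (K := K) hn.pos hθu hnU hζK hc hθ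
    have key' : ∀ a : Algebra Γ(C, U) L, (∀ b, @algebraMap _ _ _ _ a b = φ (C.germToFunctionField U b)) →
        (algebraMap Γ(C, U) (@integralClosure Γ(C, U) L _ _ a)).Etale := by
      intro a ha
      obtain rfl : a = (AdjoinRoot.instAlgebra (R := K) (S := Γ(C, U)) (pol n f₀)) :=
        Algebra.algebra_ext _ _ fun b => (ha b).trans rfl
      exact RingHom.etale_algebraMap.mpr key
    have h : (g.fromNormalization.app U).hom.Etale := by
      rw [happ]
      exact RingHom.Etale.respectsIso.1 _ e.symm (key' aK fun _ => rfl)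
    haveI : IsAffine (U : Scheme.{u}) := hU
    haveI : IsAffine (g.fromNormalization ⁻¹ᵁ U : Scheme.{u}) := hU.preimage _
    haveI : Etale (g.fromNormalization ∣_ U) := by
      rw [HasRingHomProperty.iff_of_isAffine (P := @Etale), morphismRestrict_appTop]
      show (RingHom.comp _ _).Etale
      have hV : ∀ V : C.Opens, V = U → (g.fromNormalization.app V).hom.Etale := by rintro V rfl; exact h
      exact RingHom.Etale.respectsIso.1 _ (asIso (g.normalization.presheaf.map (eqToHom
        (image_morphismRestrict_preimage g.fromNormalization U ⊤)).op)).commRingCatIsoToRingEquiv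
        (hV _ U.ι_image_top)
    rw [← morphismRestrict_ι]
    infer_instance

end Groth.L21.RootCover
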