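import Groth.Agent.L16.CycCov.Local
import Mathlib.RingTheory.IntegralClosure.IsIntegralClosure.Basic
import Mathlib.RingTheory.Etale.Basic

/-!
The integral closure of a normal domain in the field obtained by adjoining a root of a unit is étale.
-/

set_option autoImplicit false
set_option linter.style.haveILetI false
universe u

open Polynomial

noncomputable section

namespace Groth.L21.RootCover

open Groth.L02.CycCover

theorem etale_integralClosure_root {B K : Type u} [CommRing B] [IsDomain B] [IsIntegrallyClosed B] [Field K]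
    [Algebra B K] [IsFractionRing B K] {n : ℕ} (hn : 0 < n) {θ : B} (hθ : IsUnit θ) (hnB : IsUnit (n : B))
    {ζ : B} (hζ : IsPrimitiveRoot (algebraMap B K ζ) n) {f c : K} (hc : c ≠ 0)
    (h : algebraMap B K θ = c ^ n * f) :
    Algebra.Etale B (integralClosure B (Ring' n f)) := by
  haveI := etale_ring' hn hθ hnB
  have h1 : algebraMap B K θ = (1 : K) ^ n * algebraMap B K θ := by rw [one_pow, one_mul]
  have h' : (RingHom.id K) f = c⁻¹ ^ n * algebraMap B K θ := by
    rw [h, inv_pow, RingHom.id_apply, ← mul_assoc, inv_mul_cancel₀ (pow_ne_zero n hc), one_mul]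
  have hid : (RingHom.id K) f = (1 : K) ^ n * f := by rw [one_pow, one_mul, RingHom.id_apply]
  have hid' : (RingHom.id K) (algebraMap B K θ) = (1 : K) ^ n * algebraMap B K θ := by
    rw [one_pow, one_mul, RingHom.id_apply]
  let η := bc (d := n) (RingHom.id K) c (show (RingHom.id K) (algebraMap B K θ) = c ^ n * f from h)
  let ηi := bc (d := n) (RingHom.id K) c⁻¹ h'
  let θη := bc (d := n) (algebraMap B K) 1 h1
  have hηi : ∀ a, η (ηi a) = a := fun a => by
    rw [bc_comp _ _ (RingHom.id K) _ _ 1 h' _ hid (fun _ => rfl) (by simp [hc])]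
    exact bc_eq_self _ _ hid (fun _ => rfl) rfl a
  have hiη : ∀ a, ηi (η a) = a := fun a => by
    rw [bc_comp _ _ (RingHom.id K) _ _ 1 _ h' hid' (fun _ => rfl) (by simp [hc])]
    exact bc_eq_self _ _ hid' (fun _ => rfl) rfl a
  have hofB : ∀ b : B, algebraMap B (Ring' n f) b = AdjoinRoot.of _ (algebraMap B K b) := fun b => by
    rw [IsScalarTower.algebraMap_apply B K (Ring' n f), AdjoinRoot.algebraMap_eq]
  have hofθ : ∀ b : B, algebraMap B (Ring' n (algebraMap B K θ)) b = AdjoinRoot.of _ (algebraMap B K b) := fun b => by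
    rw [IsScalarTower.algebraMap_apply B K (Ring' n (algebraMap B K θ)), AdjoinRoot.algebraMap_eq]
  let χ : Ring' n θ →ₐ[B] Ring' n f :=
    { η.comp θη with
      commutes' := fun b => by
        show η (θη (AdjoinRoot.of (pol n θ) b)) = _
        rw [hofB]
        show η (bc (algebraMap B K) 1 h1 _) = _
        rw [bc_of, bc_of]
        rfl }
  let ηiA : Ring' n f →ₐ[B] Ring' n (algebraMap B K θ) :=
    { ηi with
      commutes' := fun b => by
        show ηi (algebraMap B (Ring' n f) b) = _
        rw [hofB, hofθ, bc_of]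
        rfl }
  haveI := finite_ring' hn θ
  have hmem : ∀ a, χ a ∈ integralClosure B (Ring' n f) := fun a => (IsIntegral.of_finite B a).map χ
  let χ' : Ring' n θ →ₐ[B] integralClosure B (Ring' n f) := χ.codRestrict _ hmem
  refine Algebra.Etale.of_equiv (AlgEquiv.ofBijective χ' ⟨fun a b hab => ?_, fun z => ?_⟩)
  · have h2 : θη a = θη b := by
      have h3 : η (θη a) = η (θη b) := congrArg Subtype.val hab
      simpa [hiη] using congrArg ηi h3
    refine ext_cf hn fun l hl => IsFractionRing.injective B K ?_
    have h4 := congrArg (cf hn l) h2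
    rwa [cf_bc hn _ _ _ _ hl, cf_bc hn _ _ _ _ hl, one_pow, mul_one, mul_one] at h4
  · have hz : IsIntegral B z.1 := z.2
    have hy : IsIntegral B (ηi z.1) := hz.map ηiA
    choose b hb using fun l : Fin n =>
      IsIntegrallyClosed.isIntegral_iff.1 (Groth.L16.CycCov.coeff_isIntegral hn hθ hnB hζ hy l.2)
    let a := ∑ i ∈ Finset.range n,
      AdjoinRoot.of (pol n θ) (if hi : i < n then b ⟨i, hi⟩ else 0) * AdjoinRoot.root _ ^ i
    refine ⟨a, Subtype.ext ?_⟩
    have ha : θη a = ηi z.1 := by
      refine ext_cf hn fun l hl => ?_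
      rw [cf_bc hn _ _ _ _ hl, cf_sum hn (fun i => if hi : i < n then b ⟨i, hi⟩ else 0) hl, one_pow, mul_one,
        dif_pos hl]
      exact hb ⟨l, hl⟩
    show η (θη a) = z.1
    rw [ha, hηi]

end Groth.L21.RootCover
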