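import Groth.Agent.L16.CycCov.Glue
import Groth.Agent.L21.RR.VeryAmpleIff
import Groth.Agent.L21.Bundle.AutCurve

/-!
Sections generating at finitely many points, pull-backs of sections of powers of an invertible module, and roots.
-/

set_option autoImplicit false
set_option backward.isDefEq.respectTransparency false
set_option linter.style.haveILetI false
universe u

open CategoryTheory CategoryTheory.Limits AlgebraicGeometry TopologicalSpace Opposite IsLocalRing

noncomputable section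

namespace Groth.L21.RootCover

open Groth.L18.Frame
open Groth.L21.RR (st st_germ one e0)
open Groth.L18.GenLoc (secOf homOfSection_secOf)
open Groth.L03.ShStab.Scalar (sc)

section Generate

variable {X : Scheme.{u}} (k : Type u) [Field k] [X.Over (Spec (CommRingCat.of k))]

theorem st_sc {L : X.Modules} (r : Γ(X, ⊤)) (x : X) (v : L.presheaf.stalk x) :
    st (sc L r) x v = X.presheaf.germ ⊤ x trivial r • v := by
  obtain ⟨U, hx, m, rfl⟩ := L.presheaf.exists_germ_eq v
  rw [st_germ, Groth.L21.Bundle.sc_app, Groth.L20.ModStalk.germ_smul]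
  congr 1
  exact TopCat.Presheaf.germ_res_apply X.presheaf _ x hx r

/-- Sections generating at each point of a finite set combine, over an infinite field. -/
theorem exists_surjective_finite [Infinite k] {L : X.Modules} (hL : PicF.IsInvertible L)
    (hgen : ∀ x : X, ∃ φ : Coh.structureModule X ⟶ L, Function.Surjective (st φ x))
    {T : Set X} (hT : T.Finite) :
    ∃ φ : Coh.structureModule X ⟶ L, ∀ x ∈ T, Function.Surjective (st φ x) := by
  induction T, hT using Set.Finite.induction_on with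
  | empty => exact ⟨0, fun x hx => absurd hx (Set.notMem_empty x)⟩
  | @insert t T _ hT ih =>
    obtain ⟨φ, hφ⟩ := ih
    obtain ⟨ψ, hψ⟩ := hgen t
    let tg := Coh.toGlobal (X ↘ Spec (CommRingCat.of k))
    let comb : k → (Coh.structureModule X ⟶ L) := fun c => φ + ψ ≫ sc L (tg c)
    let bad : X → Set k := fun x => {c | ¬ Function.Surjective (st (comb c) x)}
    have hval : ∀ (c : k) (x : X), st (comb c) x (one X x) =
        st φ x (one X x) + X.presheaf.germ ⊤ x trivial (tg c) • st ψ x (one X x) := by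
      intro c x
      have h1 : st (comb c) x = st φ x + st (ψ ≫ sc L (tg c)) x := by
        simp only [comb, st, Functor.map_add]
        rfl
      rw [h1, LinearMap.add_apply, Groth.L21.RR.st_comp, st_sc]
    have hbad : ∀ x : X, (Function.Surjective (st φ x) ∨ Function.Surjective (st ψ x)) → (bad x).Subsingleton := by
      intro x hx c hc c' hc'
      by_contra hne
      have h1 := not_not.1 (fun h => hc ((Groth.L21.RR.surjective_st_iff_not_mem hL (comb c) x).2 h))
      have h2 := not_not.1 (fun h => hc' ((Groth.L21.RR.surjective_st_iff_not_mem hL (comb c') x).2 h))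
      rw [hval] at h1 h2
      have hu : IsUnit (X.presheaf.germ ⊤ x trivial (tg (c - c'))) :=
        (((sub_ne_zero.2 hne).isUnit).map tg).map (X.presheaf.germ ⊤ x trivial).hom
      have h3 := Submodule.sub_mem _ h1 h2
      rw [add_sub_add_left_eq_sub, ← sub_smul, ← map_sub] at h3
      replace h3 : X.presheaf.germ ⊤ x trivial (tg (c - c')) • st ψ x (one X x) ∈
          maximalIdeal (X.presheaf.stalk x) • (⊤ : Submodule (X.presheaf.stalk x) (L.presheaf.stalk x)) := by
        rw [map_sub tg]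
        exact h3
      have hψ0 : st ψ x (one X x) ∈ maximalIdeal (X.presheaf.stalk x) •
          (⊤ : Submodule (X.presheaf.stalk x) (L.presheaf.stalk x)) := by
        have h4 := Submodule.smul_mem _ (↑hu.unit⁻¹ : X.presheaf.stalk x) h3
        rwa [smul_smul, IsUnit.val_inv_mul, one_smul] at h4
      rcases hx with h | h
      · refine (Groth.L21.RR.surjective_st_iff_not_mem hL φ x).1 h ?_
        have h5 := Submodule.sub_mem _ h1 (Submodule.smul_mem _ (X.presheaf.germ ⊤ x trivial (tg c)) hψ0)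
        rwa [add_sub_cancel_right] at h5
      · exact (Groth.L21.RR.surjective_st_iff_not_mem hL ψ x).1 h hψ0
    have hfin : (⋃ x ∈ insert t T, bad x).Finite := by
      refine (hT.insert t).biUnion fun x hx => (hbad x ?_).finite
      rcases hx with rfl | hx
      · exact Or.inr hψ
      · exact Or.inl (hφ x hx)
    obtain ⟨c, hc⟩ := hfin.infinite_compl.nonempty
    exact ⟨comb c, fun x hx => not_not.1 fun h => hc (Set.mem_biUnion hx h)⟩

end Generate

section Pull

variable {X Y : Scheme.{u}}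

theorem app_ro (ψ : Y ⟶ X) {U V : X.Opens} (h : V ≤ U) (a : Γ(X, U)) :
    ro (ψ.preimage_mono h) (ψ.app U a) = ψ.app V (ro h a) :=
  (ConcreteCategory.congr_hom (ψ.naturality (homOfLE h).op) a).symm

/-- The pull-back of a section of a power, in pulled back frames. -/
theorem exists_pull_pow_section (ψ : Y ⟶ X) {E : X.Modules} (hE : PicF.IsInvertible E) (n : ℕ)
    (s : Coh.structureModule X ⟶ CohB1.tensorPow E n) :
    ∃ s' : Coh.structureModule Y ⟶ CohB1.tensorPow ((Scheme.Modules.pullback ψ).obj E) n,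
      ∀ (U : X.Opens) (e : Γ(E, U)), IsFrame E U e → ∀ a : Γ(X, U),
        SecTwist.val s U = a • CycCov.lpow E U e n →
        SecTwist.val s' (ψ ⁻¹ᵁ U) =
          ψ.app U a • CycCov.lpow ((Scheme.Modules.pullback ψ).obj E) (ψ ⁻¹ᵁ U) (pull ψ E U e) n := by
  let L := (Scheme.Modules.pullback ψ).obj E
  let M := CohB1.tensorPow L n
  let σ : ∀ (U : X.Opens), Γ(E, U) → Γ(X, U) → Γ(M, ψ ⁻¹ᵁ U) := fun U e a =>
    ψ.app U a • CycCov.lpow L (ψ ⁻¹ᵁ U) (pull ψ E U e) n
  have hres : ∀ {U V : X.Opens} (h : V ≤ U) (e : Γ(E, U)) (a : Γ(X, U)),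
      rs M (ψ.preimage_mono h) (σ U e a) = σ V (rs E h e) (ro h a) := fun {U V} h e a => by
    refine (rs_smul _ _ _ _).trans ?_
    rw [app_ro ψ h a, Groth.L16.CycCov.rs_lpow, pull_rs]
  have hsame : ∀ {V : X.Opens} {e e' : Γ(E, V)}, IsFrame E V e → IsFrame E V e' → ∀ {a a' : Γ(X, V)},
      SecTwist.val s V = a • CycCov.lpow E V e n → SecTwist.val s V = a' • CycCov.lpow E V e' n →
      σ V e a = σ V e' a' := by
    intro V e e' _ he' a a' ha ha'
    obtain ⟨c, hc⟩ := he'.exists_coeff le_rfl e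
    rw [rs_self] at hc
    have h1 : a' = a * c ^ n := by
      refine (Groth.L16.CycCov.isGen_of_isFrame (Groth.L16.CycCov.isFrame_lpow he' n)).1 ?_
      show a' • CycCov.lpow E V e' n = _
      rw [← ha', ha, ← hc, Groth.L16.CycCov.lpow_smul]
      exact (mul_smul a (c ^ n) _).symm
    show ψ.app V a • CycCov.lpow L _ (pull ψ E V e) n = ψ.app V a' • CycCov.lpow L _ (pull ψ E V e') n
    rw [← hc, pull_smul, Groth.L16.CycCov.lpow_smul, h1, map_mul, map_pow]
    exact (mul_smul _ _ _).symm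
  have hcomp : ∀ {U U' : X.Opens} {e : Γ(E, U)} {e' : Γ(E, U')}, IsFrame E U e → IsFrame E U' e' →
      ∀ {a : Γ(X, U)} {a' : Γ(X, U')}, SecTwist.val s U = a • CycCov.lpow E U e n →
      SecTwist.val s U' = a' • CycCov.lpow E U' e' n →
      rs M (ψ.preimage_mono (inf_le_left : U ⊓ U' ≤ U)) (σ U e a) =
        rs M (ψ.preimage_mono (inf_le_right : U ⊓ U' ≤ U')) (σ U' e' a') := by
    intro U U' e e' he he' a a' ha ha'
    rw [hres, hres]
    exact hsame (he.mono inf_le_left) (he'.mono inf_le_right)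
      (Groth.L16.CycCov.val_restrict s ha _) (Groth.L16.CycCov.val_restrict s ha' _)
  have hloc : ∀ x : X, ∃ (U : X.Opens) (e : Γ(E, U)) (a : Γ(X, U)), x ∈ U ∧ IsFrame E U e ∧
      SecTwist.val s U = a • CycCov.lpow E U e n := fun x => by
    obtain ⟨U, e, hx, he⟩ := exists_frame hE x
    obtain ⟨a, ha⟩ := (Groth.L16.CycCov.isFrame_lpow he n).exists_coeff le_rfl (SecTwist.val s U)
    rw [rs_self] at ha
    exact ⟨U, e, a, hx, he, ha.symm⟩
  choose U e a hxU he ha using hloc
  let OM : TopCat.Sheaf Ab.{u} Y.toTopCat := ⟨M.presheaf, M.isSheaf⟩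
  have hcov : (⊤ : Y.Opens) ≤ ⨆ x, ψ ⁻¹ᵁ U x := fun y _ => Opens.mem_iSup.2 ⟨ψ y, hxU (ψ y)⟩
  obtain ⟨S, hS, -⟩ := OM.existsUnique_gluing' (fun x => ψ ⁻¹ᵁ U x) ⊤ (fun _ => homOfLE le_top) hcov
    (fun x => σ (U x) (e x) (a x)) fun x y => hcomp (he x) (he y) (ha x) (ha y)
  obtain ⟨s', hs'⟩ := Groth.L16.CycCov.exists_hom M S
  refine ⟨s', fun U' e' he' a' ha' => (hs' _).trans ?_⟩
  refine OM.eq_of_locally_eq' (fun x => ψ ⁻¹ᵁ (U x ⊓ U')) _ (fun x => homOfLE (ψ.preimage_mono inf_le_right))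
    (fun z hz => Opens.mem_iSup.2 ⟨ψ z, hxU (ψ z), hz⟩) _ _ fun x => ?_
  show rs M _ (rs M le_top S) = rs M _ (σ U' e' a')
  rw [rs_rs, ← hcomp (he x) he' (ha x) ha']
  show rs M le_top S = rs M _ (σ (U x) (e x) (a x))
  rw [← show rs M le_top S = σ (U x) (e x) (a x) from hS x, rs_rs]

/-- A section of `L^n` with an `n`-th root on some open gives a section of `L`, on a normal integral scheme. -/
theorem nontrivial_H0_of_root [IsIntegral Y] (hY : ∀ (U : Y.Opens) [Nonempty U], IsIntegrallyClosed Γ(Y, U))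
    {L : Y.Modules} (hL : PicF.IsInvertible L) {n : ℕ} (hn : 0 < n)
    (s : Coh.structureModule Y ⟶ CohB1.tensorPow L n) {V₀ : Y.Opens} (hV₀ : Nonempty V₀) {e₀ : Γ(L, V₀)}
    (he₀ : IsFrame L V₀ e₀) {a₀ : Γ(Y, V₀)} (ha₀ : SecTwist.val s V₀ = a₀ • CycCov.lpow L V₀ e₀ n)
    {b₀ : Γ(Y, V₀)} (hb₀ : b₀ ^ n = a₀) (ha : a₀ ≠ 0) : Nontrivial (Coh.HH Y L 0) := by
  obtain ⟨s', hs'⟩ := Groth.L16.CycCov.exists_root_section hY hL (μ := n) (m := 1) hn (mul_one n) s hV₀ ha₀ hb₀
  let t : Coh.structureModule Y ⟶ L := s' ≫ (Groth.L00.Tensor.tensorPowOne L).hom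
  have ht : t ≠ 0 := fun h => by
    have h1 : s' = 0 := by
      rw [← cancel_mono (Groth.L00.Tensor.tensorPowOne L).hom, zero_comp]
      exact h
    have h2 : b₀ = 0 := by
      refine (Groth.L16.CycCov.isGen_of_isFrame (Groth.L16.CycCov.isFrame_lpow he₀ 1)).1 ?_
      show b₀ • CycCov.lpow L V₀ e₀ 1 = (0 : Γ(Y, V₀)) • CycCov.lpow L V₀ e₀ 1
      rw [← hs', h1]
      refine Eq.trans ?_ (zero_smul Γ(Y, V₀) (show Γ(CohB1.tensorPow L 1, V₀) from CycCov.lpow L V₀ e₀ 1)).symm
      rfl
    exact ha (by rw [← hb₀, h2, zero_pow hn.ne'])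
  refine ⟨⟨(e0 L).symm (secOf t), 0, fun h => ht ?_⟩⟩
  have h3 : secOf t = (0 : Γ(L, ⊤)) := (e0 L).symm.injective (h.trans (map_zero _).symm)
  rw [← homOfSection_secOf t, h3]
  exact (congrArg (Groth.L16.homOfSection L) (show (0 : Γ(L, ⊤)) = secOf 0 from rfl)).trans (homOfSection_secOf 0)

end Pull

end Groth.L21.RootCover
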